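import Cfsg.Agent.BZ.C1.Gen
import Cfsg.Agent.BHZ.Spor.RowSuz3
import Cfsg.Agent.TAB.Suz.Main

/-!
# BZ, the covers `2.Suz` (`p = 3`) and `3.Suz` (`p = 2`) (helper84)
-/

set_option autoImplicit false
set_option maxRecDepth 100000

namespace Cfsg.Agent.BZ.C1

open Cfsg Subgroup Cfsg.Agent.BZ.T Cfsg.Agent.BHZ.Spor Cfsg.Agent.TAB.Eng Cfsg.Agent.TAB.Use
open scoped commutatorElement

namespace Sz

open Cfsg.Spor Cfsg.Agent.TID.Suz Cfsg.Agent.H714.S8.SuzFam Cfsg.Agent.H123.Cls.SuzDat Cfsg.Agent.BHZ.Spor.Suz3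
open Cfsg.Agent.TAB.Sz (dat rowA rowB td mass tab)
open Cfsg.Agent.TAB.Sm2 (mkRows)
open Cfsg.Agent.SuzThree.ThreeWr (y0)
open Cfsg.Agent.SuzThree.CentA (z0 mem_C1)
open Cfsg.Agent.SuzThree.QZero (Q0 isPGroup_Q0 z_sq)
open Cfsg.Agent.KFacts.SuzLFour (e0)
open Cfsg.Agent.PreUniq.Spor.SuzP (E X)
open Cfsg.Agent.CpAutSuz.Classes (exists_conj_inv)

theorem hy : KM.Sp.Hy td (mkRows rowA rowB) [] := KM.Sp.Hy.nil mass tab

/-- bounds of the `2`-parts -/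
def U2 : List ℕ := [13, 13, 13, 6, 6, 7, 3, 9, 10, 2, 3, 13, 3, 2, 3, 3, 3, 2, 2, 3, 4, 4, 6, 12, 11, 5, 8, 11, 8, 3, 13,
  9, 7, 13, 5, 13, 8]

theorem ub2 : KM.Sp.ubB dat (mkRows rowA rowB) [] 2 U2 [0, 0, 0, 27, 18, 15, 16, 15, 5, 18, 16, 0, 16, 18, 16, 16, 24,
    18, 18, 16, 16, 27, 16, 2, 3, 27, 15, 3, 27, 16, 0, 16, 27, 0, 18, 0, 27] = true := by decide +kernel

theorem reg2 : Reg 2 9 Suz :=
  have := finite_Suz
  reg_tab hy ub2 (by decide +kernel)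

theorem reg3 : Reg 3 5 Suz :=
  have := finite_Suz
  reg_tab hy (V := [7, 4, 2, 5, 7, 1, 4, 2, 4, 1, 1, 1, 1, 1, 1, 2, 2, 1, 2, 2, 7, 7, 2, 2, 1, 1, 4, 1, 3, 1, 1, 2, 6, 1,
    2, 2, 7]) (A := [0, 11, 11, 6, 0, 11, 10, 11, 6, 11, 11, 11, 11, 11, 11, 10, 30, 11, 10, 10, 0, 0, 10, 10, 11, 11, 6,
    11, 11, 11, 11, 10, 6, 11, 10, 11, 0]) (by decide +kernel) (by decide +kernel)

theorem ra3 : RA 3 Suz := by
  have := finite_Suz
  have h3 : Fact (Nat.Prime 3) := ⟨Nat.prime_three⟩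
  refine ra_of_atD fun y hy => ?_
  rcases fam_three hy with h | h | h
  · exact fun _ => at_of_constr (constr_four hy h)
  · obtain ⟨x, hx, hx1, -, hx6⟩ := exists_x
    obtain ⟨σ, hσ, -⟩ := fam_gal x y (hx6.trans h.symm)
    rw [← hσ]
    refine AtD.congr (fun h1 => absurd ?_ hx1) σ
    rw [CpAutSuz.ThreeC.centralizer_eq hx hx1, ← map_subtype_commutator] at h1
    obtain ⟨w, hw, rfl⟩ := h1
    exact congrArg Subtype.val (comm_inf hw hx)
  · obtain ⟨σ, hσ, -⟩ := fam_gal y0 y (fam_y0.trans h.symm)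
    obtain ⟨g, hg, hk⟩ := H811.SuzCov.cov
    obtain ⟨F, _, _, hF, ⟨e⟩⟩ := H811.PsuH.psu
    have : Finite LThreeCo1Twelve.Gam.H := Finite.of_surjective g hg
    rw [← hσ]
    exact fun _ => (at_of_descend g hg (fun n hn => (hk n).1 hn) (rc_psu hF rfl le_rfl e)).congr σ

theorem constr_z0 : Constr 2 z0 :=
  have := Fact.mk Nat.prime_two
  ⟨Q0, isPGroup_Q0, fun _ hx _ hu => KFacts.SuzR.normal_R (mem_C1.2 hx.symm) hu, fun r h1 h2 =>
    (KFacts.SuzR.centralizer_R h1).elim id fun h => eq_one_of_reg h2 (k := 1) (by rw [h, pow_one, pow_two, z_sq])⟩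

theorem ra2 {D : Subgroup Suz} (h : LocB 2 D) (hd : 2 ^ 4 ∣ Nat.card D) : RegTriv 2 D := by
  have := finite_Suz
  have h2 := Fact.mk Nat.prime_two
  obtain ⟨z, hz, ho, hc⟩ := exists_central h.pg (N := D) (fun h0 => by rw [h0, card_bot] at hd; omega) le_rfl
    fun d hd u hu => D.mul_mem (D.mul_mem hd hu) (D.inv_mem hd)
  rcases exists_conj_inv ho with hg | hg
  · exact h.rt_of_constr hz hc (constr_z0.conj (isConj_iff.2 hg))
  have h3 : td.ty z = 31 := by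
    have h4 := KM.Sp.le_cnt mass z
    rw [← card_cent_of_conj (isConj_iff.2 hg),
      show Nat.card (centralizer ({e0} : Set Suz)) = 161280 from KFacts.SuzTwoB.card_CE] at h4
    exact (by decide +kernel : ∀ i < dat.n, 2 = dat.ord i → dat.N ≤ dat.cnt i * 161280 → i = 31) _ (td.lt z)
      (ho.symm.trans (td.ord z)) h4
  by_contra h0
  obtain ⟨t, h4, h5, h6⟩ := exists_prime_of_not_regTriv h0
  have h7 := h4.odd_of_ne_two h5
  have h8 : orderOf (z * t) = 2 * orderOf t := by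
    rw [(h6 z hz).orderOf_mul_eq_mul_orderOf_of_coprime (ho ▸ (Nat.coprime_two_left.2 h7)), ho]
  have h9 : (z * t) ^ orderOf t = z := by
    obtain ⟨k, hk⟩ := h7
    rw [(h6 z hz).mul_pow, pow_orderOf_eq_one, mul_one, hk, pow_succ, pow_mul, ← ho, pow_orderOf_eq_one, one_pow, one_mul]
  refine KM.Sp.le_ub hy ub2 (g := z * t) (hd.trans (card_dvd_of_comm fun d hd => (hc d hd).symm.mul_right (h6 d hd))) ?_
  have h10 := td.pow (z * t) (orderOf t)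
  rw [h9, h3] at h10
  have h11 := h4.two_le
  rw [td.ord] at h8
  refine (by decide +kernel : ∀ i < dat.n, dat.ord i % 4 = 2 → dat.ord i ≠ 2 → 31 = dat.pwf i (dat.ord i / 2) →
    U2.getD i 0 < 4) _ (td.lt _) ?_ (by omega) (by rwa [h8, Nat.mul_div_cancel_left _ two_pos])
  obtain ⟨k, hk⟩ := h7
  omega

theorem ty_one : td.ty 1 = 0 :=
  (by decide +kernel : ∀ i < dat.n, 1 = dat.ord i → i = 0) _ (td.lt 1) (orderOf_one.symm.trans (td.ord 1))

section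

variable {K : Type} [Group K] [Finite K] {σ : K →* Suz}

/-- a character of degree `18954` -/
theorem chi3 (h : Comp.Ext 3 σ) (ν : σ.ker →* ℂˣ) :
    ∃ χ : IrrCharacter K, Comp.Ov σ ν (χ : K → ℂ) ∧ (χ : K → ℂ) 1 = (18954 : ℕ) := by
  have := Fact.mk Nat.prime_three
  obtain ⟨χ, o, h1⟩ := Comp.two_tab h ν tab ![11, 25, 28] ![11, 25, 28] (by decide +kernel) (by decide +kernel)
    (by decide +kernel) 0
  refine ⟨χ, o, (h1 1 Comp.reg_one).trans ?_⟩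
  rw [map_one, ty_one, show Comp.rv (mkRows rowA rowB) ((![11, 25, 28] : Fin 3 → ℕ) 0) 0 = 18954 by decide +kernel]
  norm_num

/-- a character of degree `79872` -/
theorem chi2 (h : Comp.Ext 2 σ) (ν : σ.ker →* ℂˣ) :
    ∃ χ : IrrCharacter K, Comp.Ov σ ν (χ : K → ℂ) ∧ (χ : K → ℂ) 1 = (79872 : ℕ) := by
  have := Fact.mk Nat.prime_two
  obtain ⟨Y, d, h1, h2⟩ := Comp.gram_tab h ν tab ![16, 24, 18, 22, 30] ![16, 24, 18, 22, 30] (by decide +kernel)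
    (fun i : Fin 3 => Comp.rv (mkRows rowA rowB) ((![16, 24, 18] : Fin 3 → ℕ) i))
    ![![1, 0, 0], ![0, 1, 0], ![0, 0, 1], ![1, 0, 1], ![0, 1, 1]] (by decide +kernel) (by decide +kernel)
  obtain ⟨χ, hχ, h3, h4, h5⟩ := row3 Y (d · 0) (d · 1) (d · 2) ((h2 0 0).trans (by decide)) ((h2 1 1).trans (by decide))
    ((h2 2 2).trans (by decide)) ((h2 0 2).trans (by decide)) ((h2 1 2).trans (by decide))
  have h6 := (h1 χ hχ).2 1 Comp.reg_one
  rw [map_one, ty_one, Fin.sum_univ_three, h3, h4, zero_mul, zero_mul, zero_add, zero_add,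
    show Comp.rv (mkRows rowA rowB) ((![16, 24, 18] : Fin 3 → ℕ) 2) 0 = 79872 by decide +kernel] at h6
  have h7 := Comp.pos_of χ h6
  refine ⟨χ, (h1 χ hχ).1, h6.trans ?_⟩
  rw [h5.resolve_right fun h8 => by omega]
  norm_num

end

end Sz

theorem suz_2_3 : ∀ (S : Type) [Group S] [Finite S], Spor.IsoSuz S → Cov XP 2 3 S := fun _ _ _ ⟨e⟩ =>
  have := Fact.mk Nat.prime_three
  Cov.of_equiv e fun _ _ _ _ _ _ _ H hc => fin H Nat.prime_two hc (H.rt_of_ra Sz.ra3) (e := 1) Sz.reg3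
    (Sz.chi2 (ext H hc)) (by norm_num) (by norm_num) (by rw [TAB.Sz.mass.1]; decide +kernel)

theorem suz_3_2 : ∀ (S : Type) [Group S] [Finite S], Spor.IsoSuz S → Cov XP 3 2 S := fun _ _ _ ⟨e⟩ =>
  have := Fact.mk Nat.prime_two
  Cov.of_equiv e fun _ _ _ _ _ _ D H hc => (em (2 ^ 4 ∣ Nat.card D)).elim
    (fun h => fin H Nat.prime_three hc (Sz.ra2 H.locB (H.ce.dvd_map h)) (e := 1) Sz.reg2
      (Sz.chi3 (ext H hc)) (by norm_num) (by norm_num) (by rw [TAB.Sz.mass.1]; decide +kernel))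
    (not_XP_eight H)

end Cfsg.Agent.BZ.C1
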