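import Cfsg.Agent.BZ.T.Loc
import Cfsg.Agent.BZ.Comp.Main
import Cfsg.Agent.KM.Sp.Eng
import Cfsg.Agent.BHZ.Spor.CTools
import Cfsg.Agent.SmallSimple.OrderEight
import Cfsg.Agent.H400.LieLocal
import Cfsg.Agent.S4528
import Cfsg.Agent.S4530

/-!
# BZ, covers of `Suz` and `Fi22` : tools (helper84)

* `ext`, `exists_nu`, `fin` : the end of a row (COMP + CRIT); `reg_tab` : `Reg` from a table;
* `not_XP_eight` : defect groups of order `8`; `AtD`, `ra_of_atD`; `rc_of_locChar`; `row3`.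
-/

set_option autoImplicit false
set_option linter.unusedSectionVars false

namespace Cfsg.Agent.BZ.C1

open Cfsg Subgroup Cfsg.Agent.BZ.T Cfsg.Agent.BHZ.Spor Cfsg.Agent.TAB.Eng Cfsg.Agent.TAB.Use
open scoped commutatorElement

section

variable {p r : ℕ} [hp : Fact p.Prime] {M : Ideal AlgInt} {K S : Type} [Group K] [Finite K] [Group S] {σ : K →* S}
  {B : Set (IrrCharacter K)} {D : Subgroup K}

theorem ext (H : Hyp p M B D σ) (hc : Nat.card (center K) = r) : Comp.Ext r σ :=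
  ⟨H.surj, H.ker.le, IsPGroup.of_card (n := 1) (by rw [H.ker, hc, pow_one])⟩

/-- a faithful central character -/
theorem exists_nu (H : Hyp p M B D σ) (hr : r.Prime) (hc : Nat.card (center K) = r) :
    ∃ ν : σ.ker →* ℂˣ, ∀ χ : IrrCharacter K, Comp.Ov σ ν (χ : K → ℂ) →
      ∀ z ∈ center K, (χ : K → ℂ) z = (χ : K → ℂ) 1 → z = 1 := by
  have h1 : Nontrivial σ.ker := Finite.one_lt_card_iff_nontrivial.1 (by rw [H.ker, hc]; exact hr.one_lt)
  obtain ⟨z, hz⟩ := exists_ne (1 : σ.ker)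
  let : CommGroup σ.ker :=
    { (inferInstance : Group σ.ker) with mul_comm := fun a b => Subtype.ext (mem_center_iff.1 (H.ker.le b.2) a) }
  have : NeZero (Monoid.exponent σ.ker) := ⟨Monoid.exponent_ne_zero_of_finite⟩
  obtain ⟨ν, hν⟩ := CommGroup.exists_apply_ne_one_of_hasEnoughRootsOfUnity σ.ker ℂ hz
  refine ⟨ν, fun χ o => faith_of_prime hr hc (H.ker.le z.2) fun h => hν (Units.ext ?_)⟩
  rw [o z] at h
  exact mul_right_cancel₀ (Blocks.Basic.irr_one_ne_zero χ.2) (h.trans (one_mul _).symm)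

theorem deg_eq {χ : IrrCharacter K} {n : ℕ} (h : (χ : K → ℂ) 1 = n) : charDegree (χ : K → ℂ) = n := by
  rw [Blocks.Basic.irr_one_eq_charDegree χ.2] at h
  exact_mod_cast h

/-- **the end of a row** -/
theorem fin (H : Hyp p M B D σ) (hr : r.Prime) (hc : Nat.card (center K) = r) (h : RegTriv p (D.map σ)) {d e n : ℕ}
    (hR : Reg p d S) (hχ : ∀ ν : σ.ker →* ℂˣ, ∃ χ : IrrCharacter K, Comp.Ov σ ν (χ : K → ℂ) ∧ (χ : K → ℂ) 1 = n)
    (h1 : p ∣ n) (h2 : ¬ p ^ (e + 1) ∣ n) (h3 : p ^ (e + d) ∣ Nat.card S) : ¬ XP p K B := by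
  have := Finite.of_surjective σ H.surj
  obtain ⟨ν, hν⟩ := exists_nu H hr hc
  obtain ⟨χ, o, h4⟩ := hχ ν
  refine H.not_XP h χ (hν χ o) (H.ce.top_of_crit H.hM hR χ ?_) (deg_eq h4 ▸ h1)
  have h0 : n ≠ 0 := fun h0 => h2 (h0 ▸ dvd_zero _)
  have h5 := (hp.out.pow_dvd_iff_le_factorization h0).not.1 h2
  have h6 := (hp.out.pow_dvd_iff_le_factorization Nat.card_pos.ne').1 h3
  rw [deg_eq h4]
  omega

/-- defect groups of order `8` -/
theorem not_XP_eight (H : Hyp 2 M B D σ) (h : ¬ 2 ^ 4 ∣ Nat.card D) : ¬ XP 2 K B := fun hX => by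
  have := Fact.mk Nat.prime_two
  have h8 : Nat.card D = 8 := by
    obtain ⟨n, hn⟩ := H.pg.exists_card_eq
    have h1 := H.cube_dvd
    rw [hn] at h h1 ⊢
    rw [Nat.pow_dvd_pow_iff_le_right one_lt_two] at h h1
    rw [show n = 3 by omega]
    rfl
  have h0 : Nat.card {χ : IrrCharacter K // χ ∈ B ∧ blockHeight 2 B (χ : K → ℂ) = 0} = Nat.card B :=
    Nat.card_congr (Equiv.subtypeEquivRight fun χ => ⟨fun h => h.1, fun h => ⟨h, hX χ h⟩⟩)
  rcases SmallSimple.OrderEight.dihedral_or_quaternion_of_card_eight h8 H.nab with e | e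
  · obtain ⟨h1, -, -, h2, -⟩ := S4528.result M H.hM B H.hB D H.hD 3 le_rfl e
    omega
  · obtain ⟨h1, -, h2, h3, -⟩ := S4530.result M H.hM B H.hB D H.hD 3 le_rfl e
    omega

end

section

variable {p : ℕ} [hp : Fact p.Prime] {S T : Type} [Group S] [Finite S] [Group T]

/-- `At` for the elements of the commutator subgroup of their centraliser -/
def AtD (p : ℕ) {S : Type} [Group S] (y : S) : Prop :=
  y ∈ ⁅centralizer ({y} : Set S), centralizer ({y} : Set S)⁆ → At p y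

theorem ra_of_atD (h : ∀ y : S, orderOf y = p → AtD p y) : RA p S := ra_of_at h

theorem AtD.congr {y : T} (h : AtD p y) (e : T ≃* S) : AtD p (e y) := fun h1 => by
  refine (h ?_).congr e
  have h2 : (centralizer ({e y} : Set S)).map e.symm.toMonoidHom ≤ centralizer {y} := by
    rintro _ ⟨x, hx, rfl⟩
    refine mem_centralizer_singleton_iff.2 (e.injective ?_)
    simpa using mem_centralizer_singleton_iff.1 hx
  have h3 := mem_map_of_mem e.symm.toMonoidHom h1
  rw [map_commutator] at h3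
  simpa using commutator_mono h2 h2 h3

theorem AtD.of_zpowers {y z : S} (h : AtD p y) (hz : y ∈ zpowers z) : AtD p z := fun h1 => by
  have h2 : centralizer ({z} : Set S) ≤ centralizer {y} := fun x hx =>
    mem_centralizer_singleton_iff.2 (commute_of_mem_zpowers (mem_centralizer_singleton_iff.1 hx).symm hz).symm
  exact (h (commutator_mono h2 h2 (zpowers_le.2 h1 hz))).of_zpowers hz

theorem rc_of_locChar (h : BpLieP.Big.LocChar p S) : RC p S :=
  rc_of_atC fun _ hy => atC_of_constr (constr_of_locChar h hy)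

variable {D : Dat} {U : TD S D} {R : TAB.Use.Rows} {X : List (ℕ × ℕ)}

omit hp in
/-- `Reg` from a table -/
theorem reg_tab (H : KM.Sp.Hy U R X) {V A : List ℕ} (h : KM.Sp.ubB D R X p V A = true) {d : ℕ}
    (h2 : ∀ i < D.n, ¬ p ∣ D.ord i → D.ord i ≠ 1 → V.getD i 0 < d) : Reg p d S := fun y h3 h4 h5 =>
  KM.Sp.le_ub H h h5 (h2 _ (U.lt y) (U.ord y ▸ h3) (U.ord y ▸ fun h6 => h4 (orderOf_eq_one_iff.1 h6)))

end

/-- `PSU n q` over a field of characteristic `p` -/
theorem rc_psu {p n q : ℕ} [hp : Fact p.Prime] {F : Type} [Field F] [Fintype F] (hF : Fintype.card F = q ^ 2) (hq : q = p)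
    (hn : 4 ≤ n) {T : Type} [Group T] [Finite T] (e : T ≃* PSU n F q) : RC p T := by
  have hc : CharP F p := by
    obtain ⟨r, hr⟩ := CharP.exists F
    obtain ⟨m, hpp, hm⟩ := FiniteField.card F r
    have h1 : r ∣ p ^ 2 := by
      rw [← hq, ← hF, hm]
      exact dvd_pow_self r m.ne_zero
    rwa [(Nat.prime_dvd_prime_iff_eq hpp hp.out).1 (hpp.dvd_of_dvd_pow h1)] at hr
  have h : IsPSUChar p T := ⟨F, inferInstance, inferInstance, hc, n, q, hF, by omega, by omega, ⟨e⟩⟩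
  have := H400.LieSimple.isSimple_of_lie (p := p) (Or.inr (Or.inr (Or.inl h)))
  exact rc_of_locChar (H400.LieLocal.locChar_of_filt (KFacts.RgdLieCharP.hasFilt_of_lie (Or.inr (Or.inr (Or.inl h)))))

/-- the Cartan matrix of the block with defect group `D₈` -/
theorem row3 {ι : Type} (X : Finset ι) (a b c : ι → ℤ) (ha : ∑ i ∈ X, a i * a i = 2) (hb : ∑ i ∈ X, b i * b i = 2)
    (hc : ∑ i ∈ X, c i * c i = 3) (hac : ∑ i ∈ X, a i * c i = 1) (hbc : ∑ i ∈ X, b i * c i = 1) :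
    ∃ i ∈ X, a i = 0 ∧ b i = 0 ∧ (c i = 1 ∨ c i = -1) := by
  have bd : ∀ (f : ι → ℤ) (n : ℤ), n ≤ 3 → ∑ i ∈ X, f i * f i = n → ∀ i ∈ X, f i = -1 ∨ f i = 0 ∨ f i = 1 := by
    intro f n hn hf i hi
    have h1 := (Finset.single_le_sum (f := fun i => f i * f i) (fun _ _ => mul_self_nonneg _) hi).trans_eq hf
    have h2 : -1 ≤ f i ∧ f i ≤ 1 := ⟨by nlinarith, by nlinarith⟩
    omega
  have key : ∀ f : ι → ℤ, ∑ i ∈ X, f i * f i = 2 → ∑ i ∈ X, f i * c i = 1 → ∑ i ∈ X, f i * f i * (c i * c i) ≤ 1 := by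
    intro f h1 h2
    have h3 : ∑ i ∈ X, f i * f i * (c i * c i) ≤ 2 := h1 ▸ Finset.sum_le_sum fun i hi => by
      rcases bd c 3 le_rfl hc i hi with h | h | h <;> rw [h] <;> nlinarith [mul_self_nonneg (f i)]
    have h4 : (2 : ℤ) ∣ ∑ i ∈ X, (f i * f i * (c i * c i) - f i * c i) := Finset.dvd_sum fun i _ => by
      have h5 := Int.even_mul_pred_self (f i * c i)
      rw [show f i * f i * (c i * c i) - f i * c i = f i * c i * (f i * c i - 1) by ring]
      exact h5.two_dvd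
    rw [Finset.sum_sub_distrib, h2] at h4
    omega
  by_contra h0
  have h1 : ∑ i ∈ X, c i * c i ≤ ∑ i ∈ X, (a i * a i * (c i * c i) + b i * b i * (c i * c i)) :=
    Finset.sum_le_sum fun i hi => by
      rcases bd a 2 (by norm_num) ha i hi with h2 | h2 | h2 <;> rcases bd b 2 (by norm_num) hb i hi with h3 | h3 | h3 <;>
        rcases bd c 3 le_rfl hc i hi with h4 | h4 | h4 <;>
        first
          | (rw [h2, h3, h4]; decide)
          | exact (h0 ⟨i, hi, by omega⟩).elim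
  rw [Finset.sum_add_distrib, hc] at h1
  have h2 := key a ha hac
  have h3 := key b hb hbc
  omega

end Cfsg.Agent.BZ.C1
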