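import Cfsg.Agent.BZ.C1.Fi
import Cfsg.Agent.BZ.C3.Blk

/-!
# BZ, the covers `2.Fi22` (`p = 3`) and `3.Fi22` (`p = 2`) : two degrees of height zero (helper79)
-/

set_option autoImplicit false
set_option maxRecDepth 100000

namespace Cfsg.Agent.BZ.C1

open Cfsg Cfsg.Agent.TAB.F22

theorem fi22_2_3T : ∀ (S : Type) [Group S] [Finite S], Spor.IsoFi22 S → Cov XT 2 3 S := fun _ _ _ ⟨e⟩ =>
  have := Fact.mk Nat.prime_two
  have := Fact.mk Nat.prime_three
  Cov.of_equiv e fun _ _ _ _ _ _ _ H hc => by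
    obtain ⟨m, h1, h2, h3⟩ := C3.dz_two H hc mass tab 43 17 1441792 (by decide +kernel) (by decide +kernel)
      (by norm_num) (by decide +kernel)
    exact (C2.fd_dz H hc mass tab 43 17 1441792 (by decide +kernel)).xt h1 H (H.rt_of_ra Fi.ra3) (by norm_num) h2 h3

theorem fi22_3_2T : ∀ (S : Type) [Group S] [Finite S], Spor.IsoFi22 S → Cov XT 3 2 S := fun _ _ _ ⟨e⟩ =>
  have := Fact.mk Nat.prime_two
  have := Fact.mk Nat.prime_three
  Cov.of_equiv e fun _ _ _ _ _ _ _ H hc =>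
    (C2.fd_dz H hc mass tab 44 9 1791153 (by decide +kernel)).xt
      (C2.fd_two H hc tab ![26, 31, 38] ![26, 31, 38] (by decide +kernel) (by decide +kernel) (by decide +kernel) 0 360855
        (by decide +kernel)) H (H.rt_of_ra Fi.ra2) (by norm_num) (by norm_num) (by norm_num)

end Cfsg.Agent.BZ.C1
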