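import Cfsg.Agent.BZ.C1.Suz
import Cfsg.Agent.BZ.C3.Blk
import Cfsg.Agent.TwoF.SpE.SuzCov
import Cfsg.Agent.H812.SuzLoc

/-!
# BZ, the covers `2.Suz` (`p = 3`) and `3.Suz` (`p = 2`) : two degrees of height zero (helper49)
-/

set_option autoImplicit false
set_option maxRecDepth 100000
set_option synthInstance.maxSize 100000
set_option maxSynthPendingDepth 10

namespace Cfsg.Agent.BZ.C1

open Cfsg Subgroup Cfsg.Agent.BZ.T Cfsg.Agent.BHZ.Spor Cfsg.Agent.TAB.Eng Cfsg.Agent.TAB.Use Cfsg.Agent.BZ.C5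

/-- a class which is not fused by the centre is good -/
theorem gd_of_nofus {K S : Type} [Group K] [Group S] {σ : K →* S} (hk : σ.ker = center K) {g : K}
    (h : ∀ z ∈ center K, IsConj g (g * z) → z = 1) : Gd σ (σ g) := fun a b e hab => by
  have h1 : g⁻¹ * a ∈ center K := hk.le (show σ (g⁻¹ * a) = 1 by rw [map_mul, map_inv, e, inv_mul_cancel])
  have h2 : g⁻¹ * (b * g * b⁻¹) = 1 := h _ (hk.le (show σ _ = 1 by
    rw [map_mul, map_mul, map_mul, map_inv, map_inv, ← e, ← hab.eq, mul_inv_cancel_right, inv_mul_cancel])) (by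
      rw [mul_inv_cancel_left]
      exact isConj_iff.2 ⟨b, rfl⟩)
  rw [inv_mul_eq_one, eq_mul_inv_iff_mul_eq] at h2
  rw [← mul_inv_cancel_left g a]
  exact Commute.mul_left h2 (mem_center_iff.1 h1 b).symm

namespace SzT

open Cfsg.Spor Cfsg.Agent.H714.S8.SuzFam
open Cfsg.Agent.TAB.Sz (dat rowA rowB td mass tab)
open Cfsg.Agent.TAB.Sm2 (mkRows)
open Cfsg.Agent.KFacts.SuzLFour (e0 V_comm V_abel)
open Cfsg.Agent.KFacts.SuzTwoB (mem_CE card_CE)
open Cfsg.Agent.H812.SuzLoc (mem_L_of_odd cent_CE)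
open Cfsg.Agent.CpAutSuz.Classes (exists_conj_inv conj_of_e0 t1 t_comm v1 v2)
open Cfsg.Agent.TwoF.SpE.Suz (val ml eqz val_eq val_ml val_z q_val ker_q exists_cov)

/-- the elements of odd order which commute with `e0` -/
theorem ord_e0 (ho : orderOf e0 = 2) {y : Suz} (h1 : Odd (orderOf y)) (h2 : y ≠ 1) (hc : Commute e0 y) :
    orderOf y = 3 ∨ orderOf y = 7 ∨ orderOf y = 5 := by
  have := finite_Suz
  have h3 : td.ty e0 = 31 := by
    have h4 := KM.Sp.le_cnt mass e0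
    rw [show Nat.card (centralizer ({e0} : Set Suz)) = 161280 from card_CE] at h4
    exact (by decide +kernel : ∀ i < dat.n, 2 = dat.ord i → dat.N ≤ dat.cnt i * 161280 → i = 31) _ (td.lt _)
      (ho.symm.trans (td.ord _)) h4
  have h8 : orderOf (e0 * y) = 2 * orderOf y := by
    rw [hc.orderOf_mul_eq_mul_orderOf_of_coprime (ho ▸ (Nat.coprime_two_left.2 h1)), ho]
  have h9 : (e0 * y) ^ orderOf y = e0 := by
    obtain ⟨k, hk⟩ := h1
    rw [hc.mul_pow, pow_orderOf_eq_one, mul_one, hk, pow_succ, pow_mul, ← ho, pow_orderOf_eq_one, one_pow, one_mul]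
  have h10 := td.pow (e0 * y) (orderOf y)
  rw [h9, h3] at h10
  have h11 := orderOf_eq_one_iff.not.2 h2
  rw [td.ord] at h8
  obtain ⟨k, hk⟩ := h1
  have h12 := (by decide +kernel : ∀ i < dat.n, dat.ord i % 4 = 2 → dat.ord i ≠ 2 → 31 = dat.pwf i (dat.ord i / 2) →
    dat.ord i = 6 ∨ dat.ord i = 14 ∨ dat.ord i = 10) _ (td.lt (e0 * y)) (by omega) (by omega)
      (by rwa [h8, Nat.mul_div_cancel_left _ two_pos])
  omega

theorem tw : eqz (ml (0, v2) (0, v1)) (ml (2, []) (ml (0, v1) (0, v2))) = true := by decide +kernel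

variable {K : Type} [Group K] [Finite K] {σ : K →* Suz} {M : Ideal AlgInt} {B : Set (IrrCharacter K)} {D : Subgroup K}

/-- the class `3C` is not good -/
theorem not_gd (H : Hyp 2 M B D σ) (hc : Nat.card (center K) = 3) : ¬ Gd σ t1 := fun h => by
  obtain ⟨φ, h1, h2⟩ := exists_cov H.qs.1.commutator_eq_top H.surj H.ker.le
  have h3 := h (φ (val (0, v1))) (φ (val (0, v2))) (by rw [h2, q_val]; rfl) (by rw [h2, h2, q_val, q_val]; exact t_comm)
  have h4 := congrArg φ (val_eq tw)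
  rw [val_ml, val_ml, val_ml, val_z, map_mul, map_mul, map_mul, h3.eq, right_eq_mul, map_pow] at h4
  have h5 := congrArg Subtype.val (pow_card_eq_one' (x := (⟨φ H58.SuzRep.z, H.ker.le ((h2 _).trans H58.SuzRep.q_z)⟩ : center K)))
  rw [hc, coe_pow, pow_succ, h4, one_mul] at h5
  have h7 : center K = ⊥ := eq_bot_iff.2 fun y hy => by
    obtain ⟨y, rfl⟩ := h1 y
    obtain ⟨i, rfl⟩ := ker_q ((h2 y).symm.trans (H.ker.ge hy))
    rw [map_pow]
    exact pow_mem (mem_bot.2 h5) i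
  rw [h7, card_bot] at hc
  omega

/-- the class `2B` is not in the centre of the defect group -/
theorem not_e0 (H : Hyp 2 M B D σ) (hc : Nat.card (center K) = 3) (ho : orderOf e0 = 2) (hz : e0 ∈ D.map σ)
    (hD : ∀ d ∈ D.map σ, Commute e0 d) : False := by
  have := finite_Suz
  have := Fact.mk Nat.prime_two
  obtain ⟨g, h1, h3, h4, h5⟩ := C3.defcl H
  have h8 : ∀ d ∈ D.map σ, Commute d (σ g) := by
    rintro _ ⟨d, hd, rfl⟩
    exact (h3 d hd).map σ
  have h10 : Odd (orderOf (σ g)) := Nat.odd_iff.2 (Nat.two_dvd_ne_zero.1 (reg_map' h1))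
  have h9 : σ g ≠ 1 := fun h6 => by
    have h7 := (H.ce.dvd_map (h5 h6 10 (by rw [mass.1]; decide +kernel))).trans
      (card_dvd_of_le (H := D.map σ) fun d hd => mem_CE.2 (hD d hd).symm)
    rw [card_CE] at h7
    omega
  rcases ord_e0 ho h10 h9 (h8 _ hz) with h11 | h11
  · exact not_gd H hc ((gd_of_nofus H.ker h4).conj H.surj (isConj_iff.2 (conj_of_e0 h11 (h8 _ hz).symm)))
  · have hL := mem_L_of_odd (mem_CE.2 (h8 _ hz).symm) h10 (pow_orderOf_eq_one _)
    refine H.nab_map (comm_of_forall fun a ha b hb => ?_)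
    obtain ⟨v, hv, i, rfl⟩ := cent_CE hL h11 (hD a ha).symm (h8 a ha)
    obtain ⟨w, hw, j, rfl⟩ := cent_CE hL h11 (hD b hb).symm (h8 b hb)
    exact Commute.mul_left (Commute.mul_right (V_abel v hv w hw) (V_comm v hv _ (zpow_mem hL j)))
      (Commute.mul_right (V_comm w hw _ (zpow_mem hL i)).symm (Commute.zpow_zpow_self _ i j))

theorem rt (H : Hyp 2 M B D σ) (hc : Nat.card (center K) = 3) : RegTriv 2 (D.map σ) := by
  have := finite_Suz
  have := Fact.mk Nat.prime_two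
  obtain ⟨z, hz, ho, hD⟩ := exists_central H.locB.pg (N := D.map σ) (fun h0 => H.nab_map (h0 ▸ inferInstance)) le_rfl
    fun d hd u hu => mul_mem (mul_mem hd hu) (inv_mem hd)
  rcases exists_conj_inv ho with hg | ⟨c, rfl⟩
  · exact H.locB.rt_of_constr hz hD (Sz.constr_z0.conj (isConj_iff.2 hg))
  have h1 := (MulAut.conj c).symm_apply_apply e0
  refine (not_e0 (H.congr (MulAut.conj c).symm) hc (((MulAut.conj c).orderOf_eq e0).symm.trans ho) ?_ ?_).elim
  · rw [← map_map, ← h1]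
    exact mem_map_of_mem _ hz
  · rintro _ ⟨d, hd, rfl⟩
    rw [← h1]
    exact (hD _ (mem_map_of_mem σ hd)).map (MulAut.conj c).symm

/-- the virtual characters, `r = 2` -/
def cf2 : List (List (ℤ × ℕ)) := [[(-1, 16), (-1, 22)], [(-1, 24), (-1, 30)], [(1, 18), (1, 22), (-1, 24)]]

/-- the Gram matrix, `r = 2` -/
def G2 : List (List ℤ) := [[2, 0, -1], [0, 2, 1], [-1, 1, 3]]

/-- the levels, `r = 2` -/
def lv2 : List Lv := [(1, 4, [1]), (1, 4, [1, 0]), (1, 1, [2, -1, 1])]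

theorem ok2 : C3.okB dat (mkRows rowA rowB) 2 cf2 G2 lv2.length [79872, -248832, -66560] 1
    [(5, 16), (-2, 18), (3, 22), (1, 24), (-1, 30)] 8 16 16 10 := by decide +kernel

/-- the virtual characters, `r = 3` -/
def cf3 : List (List (ℤ × ℕ)) :=
  [[(-1, 10), (1, 29)], [(-1, 29), (-1, 30)], [(1, 19), (-1, 29), (1, 30)], [(-1, 19), (-1, 36)]]

/-- the Gram matrix, `r = 3` -/
def G3 : List (List ℤ) := [[2, -1, -1, 0], [-1, 2, 0, 0], [-1, 0, 3, -1], [0, 0, -1, 3]]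

/-- the levels, `r = 3` -/
def lv3 : List Lv := [(1, 63, [1]), (1, 21, [2, 1]), (1, 6, [3, 1, 2]), (1, 1, [7, 3, 1, 2])]

theorem ok3 : C3.okB dat (mkRows rowA rowB) 3 cf3 G3 lv3.length [-93555, -5103, -253935, -15795] 1
    [(8, 10), (-2, 19), (-1, 29), (1, 30), (1, 36)] 9 10 10 5 := by decide +kernel

end SzT

open SzT TAB.Sz

theorem suz_2_3T : ∀ (S : Type) [Group S] [Finite S], Spor.IsoSuz S → Cov XT 2 3 S := by
  rintro S _ _ ⟨e⟩
  have := Fact.mk Nat.prime_two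
  have := Fact.mk Nat.prime_three
  refine Cov.of_equiv e fun K _ _ σ M B D H hc => ?_
  obtain ⟨n, h1, h2⟩ := C3.fdb H hc mass tab ok2 (L := 8) (by decide +kernel) one_pos (QL := [([0, 0, 1], [-1, 1, 0])])
    (P := fun d => decide (d % 3 ≠ 0 ∧ 146432 ≤ d)) (by decide +kernel)
  obtain ⟨m, h3, h4⟩ := C3.fdb H hc mass tab ok2 (L := 8) (by decide +kernel) one_pos (QL := [([0, 0, 1], [1, -1, 1])])
    (P := fun d => decide (d % 3 ≠ 0 ∧ d < 146432)) (by decide +kernel)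
  rw [decide_eq_true_eq] at h2 h4
  exact h1.xt h3 H (H.rt_of_ra Sz.ra3) (by omega) (by omega) (by omega)

theorem suz_3_2T : ∀ (S : Type) [Group S] [Finite S], Spor.IsoSuz S → Cov XT 3 2 S := by
  rintro S _ _ ⟨e⟩
  have := Fact.mk Nat.prime_two
  have := Fact.mk Nat.prime_three
  refine Cov.of_equiv e fun K _ _ σ M B D H hc => ?_
  obtain ⟨n, h1, h2⟩ := C3.fdb H hc mass tab ok3 (L := 126) (by decide +kernel) one_pos
    (QL := [([0, 0, 0, 1], [1, 0, -1, 0]), ([0, 0, 1, 0], [1, 1, 0, 0]), ([0, 1, 0, 0], [1, 0, 0, 0]),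
      ([1, 0, 0, 0], [1, 0, 0, 0])]) (P := fun d => decide (d % 2 ≠ 0 ∧ 93555 ≤ d)) (by decide +kernel)
  obtain ⟨m, h3, h4⟩ := C3.fdb H hc mass tab ok3 (L := 126) (by decide +kernel) one_pos
    (QL := [([0, 0, 0, 1], [0, 2, 1, 1]), ([0, 0, 1, 0], [0, 1, 0, 0]), ([0, 1, 0, 0], [1, 1, 0, 0])])
    (P := fun d => decide (d % 2 ≠ 0 ∧ d < 93555)) (by decide +kernel)
  rw [decide_eq_true_eq] at h2 h4
  exact h1.xt h3 H (rt H hc) (by omega) (by omega) (by omega)

end Cfsg.Agent.BZ.C1
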